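import Groth.Agent.PglPts.Aut
import Groth.Agent.AzEtale.Field
import Groth.Agent.S15184
import Groth.Agent.S15168

/-! Finite subgroups of the automorphisms of Severi–Brauer varieties. -/

set_option autoImplicit false

universe u

noncomputable section

open Polynomial
open scoped commutatorElement

namespace Groth.Agent.PglFin

variable {k : Type u} [Field k]

theorem exists_pow_mem (p : ℕ) [Fact p.Prime] [CharP k p] (hp : p = 2 ∨ p = 3)
    (D : Type u) [DivisionRing D] [Algebra k D] [Algebra.IsCentral k D] [FiniteDimensional k D]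
    (hD : Module.finrank k D = p ^ 2) :
    ∃ x : D, x ∉ (algebraMap k D).range ∧ x ^ p ∈ (algebraMap k D).range := by
  classical
  obtain ⟨v, hv⟩ := Groth.Agent.S15184.result k p D hD hp
  have hint : IsIntegral k v := IsIntegral.of_finite k v
  have hirr : Irreducible (minpoly k v) := minpoly.irreducible hint
  have hder : derivative (minpoly k v) = 0 := by
    by_contra hne
    exact hv ((separable_iff_derivative_ne_zero hirr).2 hne)
  have hp0 : p ≠ 0 := (Fact.out : p.Prime).ne_zero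
  set g := contract p (minpoly k v)
  have hexp : expand k p g = minpoly k v := expand_contract p hder hp0
  have hdeg : (minpoly k v).natDegree = g.natDegree * p := by rw [← hexp, natDegree_expand]
  let L : Subalgebra k D := Algebra.adjoin k {v}
  haveI hLd : Module.finrank k L = (minpoly k v).natDegree := AzEtale.finrank_adjoin v
  have hcomm : ∀ a ∈ L, ∀ b ∈ L, a * b = b * a := fun a ha b hb => by
    haveI := Algebra.isMulCommutative_adjoin k (s := ({v} : Set D)) fun a ha b hb => by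
      rw [Set.mem_singleton_iff.1 ha, Set.mem_singleton_iff.1 hb]
    exact setLike_mul_comm (s := L) ha hb
  letI : CommRing L :=
    { (inferInstance : Ring L) with mul_comm := fun a b => Subtype.ext (hcomm _ a.2 _ b.2) }
  letI : Field L := fieldOfFiniteDimensional k L
  have hdvd : Module.finrank k L ∣ p ^ 2 := ⟨Module.finrank L D, by rw [← hD, Module.finrank_mul_finrank]⟩
  have hlt : Module.finrank k L ≠ p ^ 2 := fun h => by
    have htop : L = ⊤ := Subalgebra.toSubmodule_injective (Submodule.eq_top_of_finrank_eq (by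
      rw [← hD] at h; exact h))
    have hc : Subalgebra.center k D = ⊤ := eq_top_iff.2 fun a _ => Subalgebra.mem_center_iff.2 fun b =>
      hcomm b (htop ▸ Algebra.mem_top) a (htop ▸ Algebra.mem_top)
    have h1 : (⊥ : Subalgebra k D) = ⊤ := top_le_iff.1 (hc ▸ Algebra.IsCentral.out)
    have h2 : Module.finrank k D = 1 := by
      rw [← Subalgebra.topEquiv.toLinearEquiv.finrank_eq, ← h1]
      exact Subalgebra.finrank_bot
    rw [hD] at h2
    exact (Fact.out : p.Prime).ne_one (Nat.eq_one_of_dvd_one ⟨p, by rw [← sq, h2]⟩)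
  rw [hLd, hdeg] at hdvd hlt
  have hpos : 0 < (minpoly k v).natDegree := minpoly.natDegree_pos hint
  obtain hg : g.natDegree = 1 := by
    obtain ⟨i, hi, h⟩ := (Nat.dvd_prime_pow Fact.out).1 hdvd
    interval_cases i
    · simp at h; exact h.1
    · rw [pow_one] at h; exact Nat.mul_right_cancel (Fact.out : p.Prime).pos (h.trans (one_mul p).symm)
    · exact absurd h hlt
  refine ⟨v, fun ⟨c, hc⟩ => ?_, ?_⟩
  · have h1 := natDegree_le_of_dvd (minpoly.dvd k v (p := X - C c) (by simp [hc])) (X_sub_C_ne_zero c)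
    rw [hdeg, hg, one_mul, natDegree_X_sub_C] at h1
    exact absurd (Fact.out : p.Prime).one_lt (by omega)
  · obtain ⟨a, ha, b, hab⟩ := natDegree_eq_one.1 hg
    have h1 := minpoly.aeval k v
    rw [← hexp, expand_aeval, ← hab, map_add, map_mul, aeval_C, aeval_C, aeval_X] at h1
    refine ⟨-b / a, ?_⟩
    have h2 : algebraMap k D a * v ^ p = algebraMap k D (-b) := by rw [map_neg]; exact eq_neg_of_add_eq_zero_left h1
    rw [div_eq_mul_inv, map_mul, ← h2, ← Algebra.commutes, ← mul_assoc, ← map_mul, inv_mul_cancel₀ ha, map_one, one_mul]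

theorem exists_elt (p : ℕ) [Fact p.Prime] [CharP k p] (hp : p = 2 ∨ p = 3)
    (A : Type u) [Ring A] [Algebra k A] [Algebra.IsCentral k A] [IsSimpleRing A]
    (hA : Module.finrank k A = p * p) :
    ∃ x : A, x ∉ (algebraMap k A).range ∧ x ^ p ∈ (algebraMap k A).range ∧
      ∀ t : k, IsUnit (1 + t • x) := by
  classical
  have hp1 : 1 < p := (Fact.out : p.Prime).one_lt
  haveI : FiniteDimensional k A := Module.finite_of_finrank_pos (by rw [hA]; positivity)
  obtain ⟨m, D, _, _, hm, hDc, hDf, ⟨e⟩⟩ := Brauer.exists_division (k := k) A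
  haveI := hDc; haveI := hDf
  haveI : Nonempty (Fin m) := ⟨⟨0, Nat.pos_of_ne_zero hm⟩⟩
  haveI : Nontrivial A := inferInstance
  rcases Nat.lt_or_ge m 2 with h1 | h2
  · obtain rfl : m = 1 := by omega
    let e₁ : Matrix (Fin 1) (Fin 1) D ≃ₐ[k] D :=
      { toFun := fun M => M 0 0
        invFun := fun d => Matrix.of fun _ _ => d
        left_inv := fun M => Matrix.ext fun a b => by rw [Subsingleton.elim a 0, Subsingleton.elim b 0]; rfl
        right_inv := fun d => rfl
        map_mul' := fun M N => by simp [Matrix.mul_apply]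
        map_add' := fun M N => rfl
        commutes' := fun r => by simp [Matrix.algebraMap_matrix_apply] }
    let e' : A ≃ₐ[k] D := e.trans e₁
    obtain ⟨x, hx, hxp⟩ := exists_pow_mem p hp D (by rw [← e'.toLinearEquiv.finrank_eq, hA, sq])
    refine ⟨e'.symm x, fun ⟨c, hc⟩ => hx ⟨c, ?_⟩, ?_, fun t => ?_⟩
    · rw [← e'.commutes, hc, AlgEquiv.apply_symm_apply]
    · obtain ⟨c, hc⟩ := hxp
      exact ⟨c, by rw [← e'.symm.commutes, hc, map_pow]⟩
    · have hne : (1 : D) + t • x ≠ 0 := fun h0 => by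
        rcases eq_or_ne t 0 with rfl | ht
        · simp at h0
        · refine hx ⟨-t⁻¹, ?_⟩
          rw [map_neg, Algebra.algebraMap_eq_smul_one, ← smul_neg, ← eq_neg_of_add_eq_zero_right h0, smul_smul,
            inv_mul_cancel₀ ht, one_smul]
      have := (IsUnit.mk0 _ hne).map e'.symm.toAlgHom
      simpa using this
  · let i : Fin m := ⟨0, by omega⟩
    let j : Fin m := ⟨1, by omega⟩
    have hij : i ≠ j := by simp [i, j]
    set x := e.symm (Matrix.single i j (1 : D))
    have hxx : x * x = 0 := by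
      rw [← map_mul, Matrix.single_mul_single_of_ne _ _ _ _ hij.symm, map_zero]
    refine ⟨x, fun ⟨c, hc⟩ => ?_, ⟨0, ?_⟩, fun t => ?_⟩
    · have h := congrArg (fun z => e z i j) hc
      simp [x, hij, Matrix.algebraMap_matrix_apply] at h
    · rw [map_zero]
      exact (pow_eq_zero_of_le hp1 (by rw [sq, hxx])).symm
    · refine ⟨⟨1 + t • x, 1 - t • x, ?_, ?_⟩, rfl⟩
      · rw [add_mul, mul_sub, one_mul, one_mul, mul_sub, mul_one, smul_mul_smul_comm, hxx, smul_zero, sub_zero]
        abel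
      · rw [sub_mul, mul_add, one_mul, one_mul, mul_add, mul_one, smul_mul_smul_comm, hxx, smul_zero, add_zero]
        abel

theorem commute_of_finite {A : Type u} [DivisionRing A] [Algebra k A]
    (hk : ∀ r : ℕ, 0 < r → (X ^ r - 1 : k[X]).Splits)
    {H : Type*} [Group H] (ξ : Aˣ →* H) (hker : ξ.ker = (Units.map (algebraMap k A : k →* A)).range)
    (hξ : Function.Surjective ξ) (G : Subgroup H) [Finite G] :
    ∀ g ∈ G, ∀ h ∈ G, g * h = h * g := by
  classical
  let Gt : Subgroup Aˣ := G.comap ξ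
  have hcen : ∀ z ∈ ξ.ker, ∀ a : Aˣ, z * a = a * z := fun z hz a => by
    rw [hker] at hz
    obtain ⟨c, rfl⟩ := hz
    exact Units.ext (Algebra.commutes (c : k) (a : A))
  have lift : ∀ g : G, ∃ a : Gt, ξ (a : Aˣ) = g := fun g => by
    obtain ⟨a, ha⟩ := hξ (g : H)
    exact ⟨⟨a, show ξ a ∈ G from ha ▸ g.2⟩, ha⟩
  choose s hs using lift
  have hfin : Finite (commutatorSet Gt) := by
    refine (Set.Finite.subset (Set.finite_range fun gh : G × G => (⁅s gh.1, s gh.2⁆ : Gt)) ?_).to_subtype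
    rintro _ ⟨a, b, rfl⟩
    refine ⟨(⟨ξ a, a.2⟩, ⟨ξ b, b.2⟩), Subtype.ext ?_⟩
    set g : G := ⟨ξ a, a.2⟩
    set h : G := ⟨ξ b, b.2⟩
    have hz1 : (s g : Aˣ) * (a : Aˣ)⁻¹ ∈ ξ.ker := by rw [MonoidHom.mem_ker, map_mul, map_inv, hs]; simp [g]
    have hz2 : (s h : Aˣ) * (b : Aˣ)⁻¹ ∈ ξ.ker := by rw [MonoidHom.mem_ker, map_mul, map_inv, hs]; simp [h]
    show ⁅(s g : Aˣ), (s h : Aˣ)⁆ = ⁅(a : Aˣ), (b : Aˣ)⁆
    obtain ⟨z, hz, e1⟩ : ∃ z ∈ ξ.ker, (s g : Aˣ) = z * a := ⟨_, hz1, by group⟩
    obtain ⟨w, hw, e2⟩ : ∃ w ∈ ξ.ker, (s h : Aˣ) = w * b := ⟨_, hz2, by group⟩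
    rw [e1, e2]
    have key : ∀ z ∈ ξ.ker, ∀ x y : Aˣ, ⁅z * x, y⁆ = ⁅x, y⁆ := fun z hz x y => by
      rw [commutatorElement_def, commutatorElement_def, hcen z hz x, mul_assoc x z y, hcen z hz y]
      group
    rw [key z hz, ← commutatorElement_inv, key w hw, commutatorElement_inv]
  intro g hg h hh
  obtain ⟨a, ha⟩ := hξ g
  obtain ⟨b, hb⟩ := hξ h
  have hc : (⁅(⟨a, show ξ a ∈ G from ha ▸ hg⟩ : Gt), ⟨b, show ξ b ∈ G from hb ▸ hh⟩⁆ : Gt) ∈ _root_.commutator Gt :=
    Subgroup.commutator_mem_commutator (Subgroup.mem_top _) (Subgroup.mem_top _)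
  obtain ⟨r, hr, hpow⟩ := isOfFinOrder_iff_pow_eq_one.1 (isOfFinOrder_of_finite (⟨_, hc⟩ : _root_.commutator Gt))
  have hpow' : ((⁅a, b⁆ : Aˣ) : A) ^ r = 1 := by
    have := congrArg (fun z => (((z : _root_.commutator Gt) : Gt) : Aˣ).val) hpow
    simpa [commutatorElement_def] using this
  have hprod := (hk r hr).eq_prod_roots
  obtain ⟨c, hcC⟩ : ∃ c : k, ((⁅a, b⁆ : Aˣ) : A) = algebraMap k A c := by
    have h0 : aeval ((⁅a, b⁆ : Aˣ) : A) (X ^ r - 1 : k[X]) = 0 := by simp [hpow']
    rw [hprod, map_mul, aeval_C] at h0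
    have hlc : algebraMap k A (X ^ r - 1 : k[X]).leadingCoeff ≠ 0 := by
      rw [show (X ^ r - 1 : k[X]) = X ^ r - C 1 by simp, leadingCoeff_X_pow_sub_C hr, map_one]
      exact one_ne_zero
    have h1 := (mul_eq_zero.1 h0).resolve_left hlc
    revert h1
    induction (X ^ r - 1 : k[X]).roots using Multiset.induction_on with
    | empty => simp
    | cons c s ih =>
      intro h1
      rw [Multiset.map_cons, Multiset.prod_cons, map_mul] at h1
      rcases mul_eq_zero.1 h1 with h2 | h2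
      · exact ⟨c, by simpa [sub_eq_zero] using h2⟩
      · exact ih h2
  have hc0 : c ≠ 0 := fun h0 => (⁅a, b⁆ : Aˣ).ne_zero (by rw [hcC, h0, map_zero])
  have hk1 : ξ ⁅a, b⁆ = 1 := by
    rw [← MonoidHom.mem_ker, hker]
    exact ⟨Units.mk0 c hc0, Units.ext hcC.symm⟩
  rw [map_commutatorElement, ha, hb, commutatorElement_eq_one_iff_mul_comm] at hk1
  exact hk1

end Groth.Agent.PglFin
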